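import Groth.Agent.AmpleThLib.Locus
import Groth.Agent.AmpleThLib.Pow
import Groth.Agent.QCohLib.Gen
import Groth.Agent.QCohLib.Modules
import Groth.Agent.DvrDom.Basic
import Groth.Agent.HilbPolyLib.IntNum

/-!
# Orders of vanishing of sections of powers
-/

set_option autoImplicit false
set_option linter.style.haveILetI false
set_option backward.isDefEq.respectTransparency false
set_option backward.isDefEq.respectTransparency.types false
set_option maxHeartbeats 1000000

universe u

open CategoryTheory CategoryTheory.Limits AlgebraicGeometry TopologicalSpace Opposite MonoidalCategory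
open AmpleLib (shT GenAt GenOn res)
open AmpleThLib (pS pS_genOn)

noncomputable section

namespace GenSectLib

/-- An element of a Noetherian local domain whose powers vanish to a large order is zero. -/
theorem eq_zero_of_pow_mem {R : Type u} [CommRing R] [IsDomain R] [IsNoetherianRing R] [IsLocalRing R]
    (c : R) (N₀ : ℕ) (h : ∀ j, N₀ < j → ∃ s, 0 < s ∧ c ^ s ∈ IsLocalRing.maximalIdeal R ^ (j * s)) :
    c = 0 := by
  by_cases hm : IsLocalRing.maximalIdeal R = ⊥
  · obtain ⟨s, hs, hc⟩ := h (N₀ + 1) (by omega)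
    rw [hm, ← Ideal.zero_eq_bot, zero_pow (by positivity), Ideal.zero_eq_bot, Ideal.mem_bot] at hc
    exact pow_eq_zero_iff hs.ne' |>.mp hc
  obtain ⟨a, ha, ha0⟩ := Submodule.exists_mem_ne_zero_of_ne_bot hm
  have hcl : Subfield.closure (Set.range (algebraMap R (FractionRing R)) ∪ ((∅ : Finset (FractionRing R)) : Set _)) = ⊤ := by
    refine eq_top_iff.mpr fun z _ => ?_
    obtain ⟨p, q, -, rfl⟩ := IsFractionRing.div_surjective R z
    exact div_mem (Subfield.subset_closure (Or.inl ⟨p, rfl⟩)) (Subfield.subset_closure (Or.inl ⟨q, rfl⟩))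
  have hinj := IsFractionRing.injective R (FractionRing R)
  have hker : RingHom.ker (algebraMap R (FractionRing R)) ≤ IsLocalRing.maximalIdeal R := by
    rw [(RingHom.injective_iff_ker_eq_bot _).mp hinj]
    exact bot_le
  obtain ⟨V, hV, hmem, hlt⟩ := DvrDomLib.exists_dvr_dominating (A := R) (L := FractionRing R)
    (IsLocalRing.maximalIdeal R) hker ⟨a, ha, fun e => ha0 (hinj (e.trans (map_zero _).symm))⟩ ∅ hcl
  haveI := hV
  let f : R →+* V := (algebraMap R (FractionRing R)).codRestrict V.toSubring hmem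
  have hle : (IsLocalRing.maximalIdeal R).map f ≤ IsLocalRing.maximalIdeal V := by
    refine Ideal.map_le_iff_le_comap.mpr fun b hb => ?_
    exact (V.valuation_lt_one_iff (f b)).mpr ((hlt b).mpr hb)
  obtain ⟨ϖ, hϖ⟩ := IsDiscreteValuationRing.exists_irreducible V
  have hdvd : ∀ j, N₀ < j → f c ∈ IsLocalRing.maximalIdeal V ^ j := fun j hj => by
    obtain ⟨s, hs, hc⟩ := h j hj
    have h1 : f c ^ s ∈ IsLocalRing.maximalIdeal V ^ (j * s) := by
      rw [← map_pow]
      exact Ideal.pow_right_mono hle _ (by rw [← Ideal.map_pow]; exact Ideal.mem_map_of_mem f hc)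
    rw [hϖ.maximalIdeal_eq, Ideal.span_singleton_pow, Ideal.mem_span_singleton] at h1 ⊢
    rw [pow_mul] at h1
    exact (IsIntegrallyClosed.pow_dvd_pow_iff hs.ne').mp h1
  have h0 : f c ∈ ⨅ j : ℕ, IsLocalRing.maximalIdeal V ^ j := by
    refine Ideal.mem_iInf.mpr fun j => ?_
    exact Ideal.pow_le_pow_right (by omega : j ≤ N₀ + 1 + j) (hdvd _ (by omega))
  rw [Ideal.iInf_pow_eq_bot_of_isDomain _ (IsLocalRing.maximalIdeal.isMaximal _).ne_top, Ideal.mem_bot] at h0
  exact hinj ((congrArg Subtype.val h0).trans (map_zero _).symm)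

variable {X : Scheme.{u}}

/-- Global sections generating everywhere make a module globally generated. -/
theorem gg_of_genAt {M : X.Modules} (hM : PicF.IsInvertible M)
    (h : ∀ x : X, ∃ σ : Γ(M, ⊤), GenAt M σ (show x ∈ (⊤ : X.Opens) from trivial)) :
    Curv2.IsGloballyGenerated M := by
  refine ⟨Γ(M, ⊤), M.freeHomEquiv.symm (fun σ => QCohLib.toSections M σ), ⟨fun {Z} φ ψ he => ?_⟩⟩
  refine AmpleThLib.hom_ext_gens (fun σ : Γ(M, ⊤) => TwistLib.genSet hM σ)
    (fun σ => res M le_top σ) h (fun σ => TwistLib.genSet_genOn hM σ) fun σ => ?_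
  have h2 : QCohLib.unitHom M σ ≫ φ = QCohLib.unitHom M σ ≫ ψ := by
    rw [← QCohLib.ιFree_comp (fun s : Γ(M, ⊤) => s) σ]
    exact (Category.assoc _ _ _).trans ((congrArg (_ ≫ ·) he).trans (Category.assoc _ _ _).symm)
  change QCohLib.unitHom M σ ≫ (show M ⟶ Z from φ) = QCohLib.unitHom M σ ≫ (show M ⟶ Z from ψ) at h2
  rw [QCohLib.app_unitHom_app, QCohLib.app_unitHom_app] at h2
  have h3 := congr_arg (fun f : Coh.structureModule X ⟶ Z => f.app ⊤ (1 : Γ(X, ⊤))) h2
  dsimp only at h3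
  rw [QCohLib.unitHom_app, QCohLib.unitHom_app, one_smul, one_smul] at h3
  change (show M ⟶ Z from φ).app _ (M.presheaf.map _ _) = (show M ⟶ Z from ψ).app _ (M.presheaf.map _ _)
  rw [QCohLib.app_map, QCohLib.app_map, show (show M ⟶ Z from φ).app ⊤ σ = (show M ⟶ Z from ψ).app ⊤ σ by
    simpa [QCohLib.toSections_top] using h3]

/-- The tensor product of two maps. -/
def tmap {M N M' N' : X.Modules} (f : M ⟶ M') (g : N ⟶ N') : CohB1.tensorMod M N ⟶ CohB1.tensorMod M' N' :=
  DCoh.shP.map (DCoh.toP.map f ⊗ₘ DCoh.toP.map g)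

theorem tmap_shT {M N M' N' : X.Modules} (f : M ⟶ M') (g : N ⟶ N') {W : X.Opens} (m : Γ(M, W)) (n : Γ(N, W)) :
    (tmap f g).app W (shT m n) = shT (f.app W m) (g.app W n) :=
  KFlatLib.shApp_map (M := M) (N := N) (M' := M') (N' := N') (DCoh.toP.map f ⊗ₘ DCoh.toP.map g) W _

/-- The powers of a map. -/
def powMap {M N : X.Modules} (f : M ⟶ N) : ∀ s : ℕ, CohB1.tensorPow M s ⟶ CohB1.tensorPow N s
  | 0 => 𝟙 _
  | s + 1 => tmap (powMap f s) f

theorem powMap_pS {M N : X.Modules} (f : M ⟶ N) {W : X.Opens} (g : Γ(M, W)) : ∀ s : ℕ,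
    (powMap f s).app W (pS g s) = pS (f.app W g) s
  | 0 => rfl
  | s + 1 => (tmap_shT (powMap f s) f (pS g s) g).trans (congrArg (shT · (f.app W g)) (powMap_pS f g s))

theorem exists_powEq {L : X.Modules} {p q : ℕ} (h : p = q) :
    ∃ i : CohB1.tensorPow L p ≅ CohB1.tensorPow L q,
      ∀ {W : X.Opens} (e : Γ(L, W)), i.hom.app W (pS e p) = pS e q := by
  subst h
  exact ⟨Iso.refl _, fun e => rfl⟩

section Order

variable {G : X.Modules} (hG : PicF.IsInvertible G) {x : X} {W : X.Opens} (hx : x ∈ W)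
  {g : Γ(G, W)} (hg : GenOn G g)
  (hbase : ∀ σ : Γ(G, ⊤), ¬ GenAt G σ (show x ∈ (⊤ : X.Opens) from trivial))

include hg hbase in
theorem coeff_mem_one (σ : Γ(G, ⊤)) {c : Γ(X, W)} (hc : c • g = res G le_top σ) :
    X.presheaf.germ W x hx c ∈ IsLocalRing.maximalIdeal (X.presheaf.stalk x) := by
  rw [IsLocalRing.mem_maximalIdeal, mem_nonunits_iff, ← Scheme.mem_basicOpen X c x hx]
  intro h
  refine hbase σ ((AmpleLib.genAt_res (le_top : W ≤ ⊤) σ hx).mp ?_)
  rw [← hc]
  exact (AmpleLib.genAt_smul_iff c g hx (hg.genAt hx)).mpr h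

include hg hbase in
/-- Sums of products of non-generating sections vanish to high order. -/
theorem coeff_mem_pow (hmul : ∀ k : ℕ, 0 < k → Function.Surjective
      (KFlatLib.shApp (CohB1.tensorPow G k) G ⊤)) : ∀ (K : ℕ) (σ : Γ(CohB1.tensorPow G (K + 1), ⊤))
      {c : Γ(X, W)}, c • pS g (K + 1) = res (CohB1.tensorPow G (K + 1)) le_top σ →
      X.presheaf.germ W x hx c ∈ IsLocalRing.maximalIdeal (X.presheaf.stalk x) ^ (K + 1) := by
  intro K
  induction K with
  | zero =>
    intro σ c hc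
    rw [zero_add, pow_one, IsLocalRing.mem_maximalIdeal, mem_nonunits_iff, ← Scheme.mem_basicOpen X c x hx]
    intro h
    have h1 : GenAt (CohB1.tensorPow G (0 + 1)) σ (show x ∈ (⊤ : X.Opens) from trivial) := by
      refine (AmpleLib.genAt_res (le_top : W ≤ ⊤) σ hx).mp ?_
      rw [← hc]
      exact (AmpleLib.genAt_smul_iff c _ hx ((pS_genOn hg (0 + 1)).genAt hx)).mpr h
    exact hbase _ ((TwistLib.genAt_app_iso (show CohB1.tensorPow G (0 + 1) ≅ G from
      HilbPolyLib.unitLeft G) σ trivial).mpr h1)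
  | succ K IH =>
    intro σ c hc
    obtain ⟨t, rfl⟩ := hmul (K + 1) (Nat.succ_pos K) σ
    suffices key : ∃ d : Γ(X, W), d • pS g (K + 1 + 1) =
        res (CohB1.tensorPow G (K + 1 + 1)) le_top (KFlatLib.shApp (CohB1.tensorPow G (K + 1)) G ⊤ t) ∧
        X.presheaf.germ W x hx d ∈ IsLocalRing.maximalIdeal (X.presheaf.stalk x) ^ (K + 1 + 1) by
      obtain ⟨d, hd, hd'⟩ := key
      rwa [((pS_genOn hg (K + 1 + 1)) W le_rfl).1 (a₁ := c) (a₂ := d)
        (by dsimp only; rw [AmpleLib.res_refl]; exact hc.trans hd.symm)]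
    clear hc
    induction t using TensorProduct.induction_on with
    | zero =>
      refine ⟨0, ?_, by rw [map_zero]; exact Submodule.zero_mem _⟩
      rw [zero_smul]
      exact ((congrArg (res (CohB1.tensorPow G (K + 1 + 1)) (le_top : W ≤ ⊤))
        (map_zero (((PresheafOfModules.sheafificationAdjunction.{u} (R := X.ringCatSheaf)
          (𝟙 X.ringCatSheaf.obj)).unit.app (KFlatLib.pT (CohB1.tensorPow G (K + 1)) G : X.PresheafOfModules)).app
            (op ⊤)).hom)).trans (map_zero _)).symm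
    | tmul a b =>
      obtain ⟨r, hr⟩ := ((pS_genOn hg (K + 1)) W le_rfl).2 (res (CohB1.tensorPow G (K + 1)) le_top a)
      obtain ⟨s, hs⟩ := (hg W le_rfl).2 (res G le_top b)
      dsimp only at hr hs
      rw [AmpleLib.res_refl] at hr hs
      refine ⟨r * s, ?_, ?_⟩
      · refine Eq.trans ?_ (AmpleLib.shT_res (M := CohB1.tensorPow G (K + 1)) (N := G) (le_top : W ≤ ⊤) a b).symm
        rw [← hr, ← hs, AmpleLib.shT_smul]
        rfl
      · rw [map_mul, pow_succ]
        exact Ideal.mul_mem_mul (IH a hr) (coeff_mem_one hx hg hbase b hs)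
    | add t t' ht ht' =>
      obtain ⟨d, hd, hd'⟩ := ht
      obtain ⟨d', hd1, hd2⟩ := ht'
      refine ⟨d + d', ?_, by rw [map_add]; exact Submodule.add_mem _ hd' hd2⟩
      rw [add_smul, hd, hd1]
      exact (map_add _ _ _).symm.trans
        (congrArg (res (CohB1.tensorPow G (K + 1 + 1)) le_top) (KFlatLib.shApp_add _ _ _ t t').symm)

end Order

end GenSectLib
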